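import Groth.Agent.CohDer.K49.GrothSS
import Groth.Agent.Cohder.RDLES

/-!
# The Grothendieck spectral sequence of a composite functor (existence form)
-/

set_option autoImplicit false

universe w w' v v' v'' u u' u''

open CategoryTheory Limits Pretriangulated
open Groth.Agent.Etrest.RDer1
open scoped ZeroObject

noncomputable section

namespace K49.GrothComp

section

variable {C : Type u} {C' : Type u'} {B : Type u''} [Category.{v} C] [Category.{v'} C'] [Category.{v''} B]
    [Abelian C] [Abelian C'] [Abelian B] [HasInjectiveResolutions C]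
    (T : C ⥤ C') [T.Additive]

/-- `T` applied to an injective resolution, as a bounded below complex. -/
def TI {A : C} (R : InjectiveResolution A) : CochainComplex.Plus C' :=
  ⟨(T.mapHomologicalComplex (.up ℤ)).obj R.cochainComplex, 0,
    inferInstanceAs (CochainComplex.IsStrictlyGE
      ((T.mapHomologicalComplex (.up ℤ)).obj R.cochainComplex) 0)⟩

instance {A : C} (R : InjectiveResolution A) : (TI T R).obj.IsStrictlyGE 0 :=
  inferInstanceAs (CochainComplex.IsStrictlyGE
      ((T.mapHomologicalComplex (.up ℤ)).obj R.cochainComplex) 0)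

/-- `H^n(T(I)) = R^nT(A)`. -/
def homologyTI {A : C} (R : InjectiveResolution A) (n : ℕ) :
    (TI T R).obj.homology (n : ℤ) ≅ (T.rightDerived n).obj A :=
  (HomologicalComplex.homologyFunctor C' (.up ℤ) (n : ℤ)).mapIso
      (mapExtendIso ComplexShape.embeddingUpNat T R.cocomplex) ≪≫
    (((T.mapHomologicalComplex _).obj R.cocomplex).extendHomologyIso ComplexShape.embeddingUpNat
      (j := n) (j' := (n : ℤ)) rfl) ≪≫ (R.isoRightDerivedObj T n).symm

omit [HasInjectiveResolutions C] in
lemma acyclic_TI (S : C' ⥤ B) [S.Additive] [HasInjectiveResolutions C']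
    (hT : ∀ Q : C, Injective Q → ∀ q : ℕ, 0 < q → IsZero ((S.rightDerived q).obj (T.obj Q)))
    {A : C} (R : InjectiveResolution A) (m : ℤ) (i : ℕ) (hi : 0 < i) :
    IsZero ((S.rightDerived i).obj ((TI T R).obj.X m)) :=
  hT (R.cochainComplex.X m) inferInstance i hi

end

end K49.GrothComp
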