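import Groth.Agent.CohDer.K49.TSpec
import Groth.Agent.Etdl.H423.Amp

/-!
# The Grothendieck spectral object

For `S : A ⥤ B` additive, `A` with enough injectives, and `K` in `D^+(A)`: the spectral object
`soRS S K` in `B` with `H^n(a ≤ b) = H^n(RS(τ_[a,b) K))`; `H^n(q ≤ q+1) = R^{n-q}S(H^q K)`,
`H^n(⊥ ≤ ⊤) = H^n(RS K)` and the vanishing ranges.
-/

set_option autoImplicit false

universe w w' v v' u u'

open CategoryTheory Limits Pretriangulated ComposableArrows Triangulated
open Groth.Agent.Etrest.RDer1 Groth.Agent.Etdl.H423.Amp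

noncomputable section

namespace K49.GrothSO

section homology

variable {A : Type u} [Category.{v} A] [Abelian A] [HasDerivedCategory.{w} A]

abbrev tP (A : Type u) [Category.{v} A] [Abelian A] [HasDerivedCategory.{w} A] :
    TStructure (DerivedCategory.Plus A) := DerivedCategory.Plus.TStructure.t

lemma isIso_homology_truncLTι (K : DerivedCategory.Plus A) (q q' : ℤ) (h : q < q') :
    IsIso ((DerivedCategory.Plus.homologyFunctor A q).map (((tP A).truncLTι q').app K)) := by
  have hT := (tP A).triangleLTGE_distinguished q' K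
  have h1 := (DerivedCategory.Plus.homologyFunctor A 0).homologySequence_exact₂ _ hT q
  have h2 := (DerivedCategory.Plus.homologyFunctor A 0).homologySequence_exact₁ _ hT (q - 1) q (by lia)
  have z1 : IsZero ((DerivedCategory.Plus.homologyFunctor A q).obj (((tP A).truncGE q').obj K)) :=
    (isGE_iff_homology _ q').1 inferInstance q h
  have z2 : IsZero ((DerivedCategory.Plus.homologyFunctor A (q - 1)).obj (((tP A).truncGE q').obj K)) :=
    (isGE_iff_homology _ q').1 inferInstance (q - 1) (by lia)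
  have e : Epi ((DerivedCategory.Plus.homologyFunctor A q).map (((tP A).truncLTι q').app K)) :=
    h1.epi_f (z1.eq_of_tgt _ _)
  have m : Mono ((DerivedCategory.Plus.homologyFunctor A q).map (((tP A).truncLTι q').app K)) :=
    h2.mono_g (z2.eq_of_src _ _)
  exact isIso_of_mono_of_epi _

lemma isIso_homology_truncGEπ (K : DerivedCategory.Plus A) (q q' : ℤ) (h : q' ≤ q) :
    IsIso ((DerivedCategory.Plus.homologyFunctor A q).map (((tP A).truncGEπ q').app K)) := by
  have hT := (tP A).triangleLTGE_distinguished q' K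
  have h1 := (DerivedCategory.Plus.homologyFunctor A 0).homologySequence_exact₂ _ hT q
  have h2 := (DerivedCategory.Plus.homologyFunctor A 0).homologySequence_exact₃ _ hT q (q + 1) (by lia)
  have hle : (((tP A).truncLT q').obj K).IsLE (q' - 1) := inferInstance
  have z1 : IsZero ((DerivedCategory.Plus.homologyFunctor A q).obj (((tP A).truncLT q').obj K)) :=
    (isLE_iff_homology _ (q' - 1)).1 hle q (by lia)
  have z2 : IsZero ((DerivedCategory.Plus.homologyFunctor A (q + 1)).obj (((tP A).truncLT q').obj K)) :=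
    (isLE_iff_homology _ (q' - 1)).1 hle (q + 1) (by lia)
  have e : Mono ((DerivedCategory.Plus.homologyFunctor A q).map (((tP A).truncGEπ q').app K)) :=
    h1.mono_g (z1.eq_of_src _ _)
  have m : Epi ((DerivedCategory.Plus.homologyFunctor A q).map (((tP A).truncGEπ q').app K)) :=
    h2.epi_f (z2.eq_of_tgt _ _)
  exact isIso_of_mono_of_epi _

/-- `H^q(τ_[q,q+1) K) = H^q(K)`. -/
def homologyTrunc (K : DerivedCategory.Plus A) (q q' : ℤ) (h : q + 1 = q') :
    (DerivedCategory.Plus.homologyFunctor A q).obj (((tP A).truncGE q).obj (((tP A).truncLT q').obj K)) ≅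
      (DerivedCategory.Plus.homologyFunctor A q).obj K :=
  haveI := isIso_homology_truncGEπ (((tP A).truncLT q').obj K) q q le_rfl
  haveI := isIso_homology_truncLTι K q q' (by lia)
  (asIso ((DerivedCategory.Plus.homologyFunctor A q).map (((tP A).truncGEπ q).app
    (((tP A).truncLT q').obj K)))).symm ≪≫
  asIso ((DerivedCategory.Plus.homologyFunctor A q).map (((tP A).truncLTι q').app K))

/-- The homology of a shifted object in degree zero. -/
def homologySingle (M : A) (q : ℤ) :
    (DerivedCategory.Plus.homologyFunctor A q).obj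
      (((DerivedCategory.Plus.singleFunctor A 0).obj M)⟦-q⟧) ≅ M :=
  ((DerivedCategory.Plus.homologyFunctor A 0).shiftIso (-q) q 0 (by lia)).app _ ≪≫
    (DerivedCategory.singleFunctorCompHomologyFunctorIso A 0).app M

/-- An object of `D^+` concentrated in degree `q` is `H^q[-q]`. -/
lemma nonempty_iso_single (Y : DerivedCategory.Plus A) (q : ℤ) (h1 : Y.IsGE q) (h2 : Y.IsLE q) :
    Nonempty (Y ≅ ((DerivedCategory.Plus.singleFunctor A 0).obj
      ((DerivedCategory.Plus.homologyFunctor A q).obj Y))⟦-q⟧) := by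
  obtain ⟨M, ⟨e⟩⟩ := exists_iso_single Y q h1 h2
  have e' : (DerivedCategory.Plus.homologyFunctor A q).obj Y ≅ M :=
    (DerivedCategory.Plus.homologyFunctor A q).mapIso e ≪≫ homologySingle M q
  exact ⟨e ≪≫ (shiftFunctor _ (-q)).mapIso ((DerivedCategory.Plus.singleFunctor A 0).mapIso e'.symm)⟩

end homology

section RS

variable {A : Type u} [Category.{v} A] [Abelian A] [HasDerivedCategory.{w} A] [EnoughInjectives A]
  {B : Type u'} [Category.{v'} B] [Abelian B] [HasDerivedCategory.{w'} B]
  (S : A ⥤ B) [S.Additive]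

/-- `RS` preserves `≥ m`: vanishing of homology. -/
theorem isZero_homology_RG (Y : DerivedCategory.Plus A) (m : ℤ) [Y.IsGE m] (i : ℤ) (hi : i < m) :
    IsZero ((DerivedCategory.Plus.homologyFunctor B i).obj ((RG S).obj Y)) := by
  obtain ⟨L, hL, ⟨e⟩⟩ := DerivedCategory.Plus.exists_injective_nonempty_iso Y m
  refine IsZero.of_iso ?_ ((DerivedCategory.Plus.homologyFunctor B i).mapIso
    ((RG S).mapIso e.symm) ≪≫ (HInj S i).app L)
  refine ShortComplex.isZero_homology_of_isZero_X₂ _ ?_
  exact S.map_isZero ((InjectiveObject.ι A).map_isZero (CochainComplex.isZero_of_isStrictlyGE L.obj m i hi))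

/-- `RS` preserves `≥ m`. -/
theorem isGE_RG (Y : DerivedCategory.Plus A) (m : ℤ) [Y.IsGE m] : ((RG S).obj Y).IsGE m :=
  (isGE_iff_homology _ m).2 fun i hi => isZero_homology_RG S Y m i hi

/-- `H^0(RS -)` as a functor on `D^+`. -/
abbrev hRS : DerivedCategory.Plus A ⥤ B := RG S ⋙ DerivedCategory.Plus.homologyFunctor B 0

/-- The Grothendieck spectral object. -/
abbrev soRS (K : DerivedCategory.Plus A) : Abelian.SpectralObject B EInt :=
  TSpec.so (tP A) (hRS S) K

/-- `H^n(⊥ ≤ ⊤) = H^n(RS K)`. -/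
def HBotTop (K : DerivedCategory.Plus A) (n : ℤ) :
    ((soRS S K).H n).obj (mk₁ (homOfLE (bot_le : (⊥ : EInt) ≤ ⊤))) ≅
      (DerivedCategory.Plus.homologyFunctor B n).obj ((RG S).obj K) := Iso.refl _

lemma isZero_H_of_le (K : DerivedCategory.Plus A) (m : ℤ) [K.IsGE m] (n : ℤ) (a b : EInt) (hab : a ≤ b)
    (hb : b ≤ m) : IsZero (((soRS S K).H n).obj (mk₁ (homOfLE hab))) :=
  TSpec.isZero_H_of_le _ _ _ m n a b hab hb

lemma isZero_H_of_lt (K : DerivedCategory.Plus A) (n m : ℤ) (hm : n < m) (a b : EInt) (hab : a ≤ b)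
    (ha : m ≤ a) : IsZero (((soRS S K).H n).obj (mk₁ (homOfLE hab))) :=
  TSpec.isZero_H_of_lt (tP A) (hRS S) K m n (fun Y _ => isZero_homology_RG S Y m n hm) a b hab ha

/-- `H^n(RS(M[-q])) = R^{n-q}S(M)`. -/
def HSingleShift (M : A) (n q : ℤ) (p : ℕ) (h : p + q = n) :
    (DerivedCategory.Plus.homologyFunctor B n).obj ((RG S).obj
      (((DerivedCategory.Plus.singleFunctor A 0).obj M)⟦-q⟧)) ≅ (S.rightDerived p).obj M :=
  ((hRS S).shiftIso (-q) n p (by lia)).app _ ≪≫ (hSingleIso S p).app M

/-- `H^n(q ≤ q+1) = R^{n-q}S(H^q K)`. -/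
theorem nonempty_HInt (K : DerivedCategory.Plus A) (n q q' : ℤ) (hq : q + 1 = q') (p : ℕ) (h : p + q = n) :
    Nonempty (((soRS S K).H n).obj (mk₁ (homOfLE (by subst hq; exact WithBotTop.coe_le_coe.2 (by lia) :
      ((q : ℤ) : EInt) ≤ ((q' : ℤ) : EInt)))) ≅
      (S.rightDerived p).obj ((DerivedCategory.Plus.homologyFunctor A q).obj K)) := by
  obtain ⟨e⟩ := nonempty_iso_single (((tP A).truncGE q).obj (((tP A).truncLT q').obj K)) q
    inferInstance (by
      have : (((tP A).truncLT q').obj K).IsLE q := (tP A).isLE_of_le _ (q' - 1) q (by lia)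
      infer_instance)
  exact ⟨TSpec.HInt _ _ K n q q' hq ≪≫
    (DerivedCategory.Plus.homologyFunctor B n).mapIso ((RG S).mapIso e) ≪≫ HSingleShift S _ n q p h ≪≫
    (S.rightDerived p).mapIso (homologyTrunc K q q' hq)⟩

end RS

end K49.GrothSO
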