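import Groth.Agent.CohDer.K49.GrothSO
import Groth.Agent.EtDesc.K224.SpAbut
import Groth.Agent.Cohder.RDPlusAcyc

/-!
# Grothendieck-type spectral sequences (existence form)

* `exists_of_plus`: for `X ∈ D^+(A)`, `X ≥ 0`, `S : A ⥤ B` additive: `E₂^{p,q} = R^pS(H^q X) ⇒ H^{p+q}(RS X)`.
* `exists_of_acyclic`: for a complex `K` in degrees `≥ 0` with `S`-acyclic terms, `S` left exact:
  `E₂^{p,q} = R^pS(H^q K) ⇒ H^{p+q}(S K)`.
-/

set_option autoImplicit false

universe w w' v v' u u'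

open CategoryTheory Limits Pretriangulated ComposableArrows Triangulated
open Groth.Agent.Etrest.RDer1 Groth.Agent.Etdl.H423.Amp
open scoped ZeroObject

noncomputable section

namespace K49.GrothSS

open GrothSO

section plus

variable {A : Type u} [Category.{v} A] [Abelian A] [HasDerivedCategory.{w} A] [EnoughInjectives A]
  {B : Type u'} [Category.{v'} B] [Abelian B] [HasDerivedCategory.{w'} B]
  (S : A ⥤ B) [S.Additive]

/-- `E₂^{p,q} = R^pS(H^q X) ⇒ H^{p+q}(RS X)` for `X ≥ 0` in `D^+(A)`. -/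
theorem exists_of_plus (X : DerivedCategory.Plus A) [X.IsGE 0] (H : ℤ → B)
    (hH : ∀ n, Nonempty ((DerivedCategory.Plus.homologyFunctor B n).obj ((RG S).obj X) ≅ H n)) :
    ∃ (E : E₂CohomologicalSpectralSequence B) (a : SpSeq.Abutment E H),
      (∀ n, a.IsFinite n) ∧ SpSeq.IsBounded E ∧
      ∀ p q : ℤ, Nonempty ((E.page 2 le_rfl).X (p, q) ≅
        (if 0 ≤ p ∧ 0 ≤ q then
          (S.rightDerived p.toNat).obj ((DerivedCategory.Plus.homologyFunctor A q).obj X) else 0)) := by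
  have hY : K224.SpAbut.IsBdd (soRS S X) :=
    { low := fun n => ⟨0, fun i j h hj => isZero_H_of_le S X 0 n i j h hj⟩
      high := fun n => ⟨n + 1, fun i j h hi => isZero_H_of_lt S X n (n + 1) (by lia) i j h hi⟩ }
  obtain ⟨E, a, ha, hb, hE⟩ := K224.SpAbut.exists_spectralSequence_E₂ (soRS S X) hY H
    (fun n => ⟨(HBotTop S X n) ≪≫ (hH n).some⟩)
  refine ⟨E, a, ha, hb, fun p q => ?_⟩
  obtain ⟨e⟩ := hE p q
  by_cases hpq : 0 ≤ p ∧ 0 ≤ q
  · rw [if_pos hpq]
    obtain ⟨e'⟩ := nonempty_HInt S X (p + q) q (q + 1) rfl p.toNat (by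
      have := Int.toNat_of_nonneg hpq.1
      lia)
    exact ⟨e ≪≫ e'⟩
  · rw [if_neg hpq]
    refine ⟨(IsZero.of_iso ?_ e).iso (isZero_zero _)⟩
    rw [not_and_or, not_le, not_le] at hpq
    rcases hpq with hp | hq
    · exact isZero_H_of_lt S X (p + q) q (by lia) _ _ _ le_rfl
    · exact isZero_H_of_le S X 0 (p + q) _ _ _ (WithBotTop.coe_le_coe.2 (by lia))

/-- Homology of the image of a complex in `D^+`. -/
def homologyQ (K : CochainComplex.Plus A) (q : ℤ) :
    (DerivedCategory.Plus.homologyFunctor A q).obj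
      (DerivedCategory.Plus.Qh.obj ((HomotopyCategory.Plus.quotient A).obj K)) ≅ K.obj.homology q :=
  (DerivedCategory.homologyFunctorFactorsh A q).app _ ≪≫
    (HomotopyCategory.homologyFunctorFactors A (.up ℤ) q).app K.obj

omit [EnoughInjectives A] in
lemma isGE_Q (K : CochainComplex.Plus A) (m : ℤ) [K.obj.IsStrictlyGE m] :
    (DerivedCategory.Plus.Qh.obj ((HomotopyCategory.Plus.quotient A).obj K)).IsGE m := by
  rw [isGE_iff_homology]
  intro i hi
  refine IsZero.of_iso ?_ (homologyQ K i)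
  exact ShortComplex.isZero_homology_of_isZero_X₂ _ (CochainComplex.isZero_of_isStrictlyGE K.obj m i hi)

/-- `H^n(RS K) = H^n(S K)` for `K` a bounded below complex of `S`-acyclic objects. -/
def homologyRG [PreservesFiniteLimits S] (K : CochainComplex.Plus A)
    (hK : ∀ (m : ℤ) (i : ℕ), 0 < i → IsZero ((S.rightDerived i).obj (K.obj.X m))) (n : ℤ) :
    (DerivedCategory.Plus.homologyFunctor B n).obj ((RG S).obj
      (DerivedCategory.Plus.Qh.obj ((HomotopyCategory.Plus.quotient A).obj K))) ≅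
      ((S.mapHomologicalComplex (.up ℤ)).obj K.obj).homology n :=
  haveI := Groth.Agent.Cohder.RDPlusAcyc.isIso_unit_app S K hK
  (DerivedCategory.Plus.homologyFunctor B n).mapIso ((RGIso S).symm.app _ ≪≫
    (asIso (S.rightDerivedFunctorPlusUnit.app ((HomotopyCategory.Plus.quotient A).obj K))).symm) ≪≫
    homologyQ ⟨(S.mapHomologicalComplex (.up ℤ)).obj K.obj, by
      obtain ⟨m, hm⟩ := K.property
      exact ⟨m, inferInstanceAs (CochainComplex.IsStrictlyGE
        ((S.mapHomologicalComplex (.up ℤ)).obj K.obj) m)⟩⟩ n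

/-- `E₂^{p,q} = R^pS(H^q K) ⇒ H^{p+q}(S K)` for a complex `K` in degrees `≥ 0` with `S`-acyclic terms. -/
theorem exists_of_acyclic [PreservesFiniteLimits S] (K : CochainComplex.Plus A) [K.obj.IsStrictlyGE 0]
    (hK : ∀ (m : ℤ) (i : ℕ), 0 < i → IsZero ((S.rightDerived i).obj (K.obj.X m))) (H : ℤ → B)
    (hH : ∀ n, Nonempty (((S.mapHomologicalComplex (.up ℤ)).obj K.obj).homology n ≅ H n)) :
    ∃ (E : E₂CohomologicalSpectralSequence B) (a : SpSeq.Abutment E H),
      (∀ n, a.IsFinite n) ∧ SpSeq.IsBounded E ∧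
      ∀ p q : ℤ, Nonempty ((E.page 2 le_rfl).X (p, q) ≅
        (if 0 ≤ p ∧ 0 ≤ q then (S.rightDerived p.toNat).obj (K.obj.homology q) else 0)) := by
  have := isGE_Q K 0
  obtain ⟨E, a, ha, hb, hE⟩ := exists_of_plus S
    (DerivedCategory.Plus.Qh.obj ((HomotopyCategory.Plus.quotient A).obj K)) H
    (fun n => ⟨homologyRG S K hK n ≪≫ (hH n).some⟩)
  refine ⟨E, a, ha, hb, fun p q => ?_⟩
  obtain ⟨e⟩ := hE p q
  by_cases hpq : 0 ≤ p ∧ 0 ≤ q
  · rw [if_pos hpq] at e ⊢
    exact ⟨e ≪≫ (S.rightDerived p.toNat).mapIso (homologyQ K q)⟩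
  · rw [if_neg hpq] at e ⊢
    exact ⟨e⟩

end plus

end K49.GrothSS
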