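import Mathlib.CategoryTheory.Triangulated.SpectralObject
import Mathlib.CategoryTheory.Triangulated.HomologicalFunctor
import Mathlib.Algebra.Homology.SpectralObject.Basic

/-!
# The spectral object in an abelian category obtained by applying a homological functor
-/

set_option autoImplicit false

namespace K49.HomSpec

open CategoryTheory Limits Pretriangulated ComposableArrows

variable {C ι A : Type*} [Category* C] [Category* ι] [Category* A] [HasZeroObject C]
  [HasShift C ℤ] [Preadditive C] [∀ (n : ℤ), (shiftFunctor C n).Additive] [Pretriangulated C]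
  [Abelian A]

/-- The image of a spectral object by a homological functor. -/
@[simps H]
noncomputable def mapHomological (X : Triangulated.SpectralObject C ι) (F : C ⥤ A)
    [F.ShiftSequence ℤ] [F.IsHomological] : Abelian.SpectralObject A ι where
  H n := X.ω₁ ⋙ F.shift n
  δ' n₀ n₁ h :=
    { app D := F.homologySequenceδ (X.ω₂.obj D) n₀ n₁ h
      naturality D D' φ := F.homologySequenceδ_naturality _ _ (X.ω₂.map φ) n₀ n₁ h }
  exact₁' n₀ n₁ h D :=
    (F.homologySequence_exact₁ _ (X.ω₂_obj_distinguished D) n₀ n₁ h).exact_toComposableArrows
  exact₂' n D :=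
    (F.homologySequence_exact₂ _ (X.ω₂_obj_distinguished D) n).exact_toComposableArrows
  exact₃' n₀ n₁ h D :=
    (F.homologySequence_exact₃ _ (X.ω₂_obj_distinguished D) n₀ n₁ h).exact_toComposableArrows

end K49.HomSpec
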