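import Groth.Agent.CohDer.K49.HomSpec
import Mathlib.CategoryTheory.Triangulated.TStructure.SpectralObject

/-!
# The spectral object of a homological functor applied to the truncations of an object

`T` a triangulated category with a t-structure `t`, `F : T ⥤ A` homological with a shift sequence, `X : T`:
`so t F X : Abelian.SpectralObject A EInt`, `H^n(a ≤ b) = (F.shift n) (τ_{≥ a} τ_{< b} X)`.
-/

set_option autoImplicit false

namespace K49.TSpec

open CategoryTheory Limits Pretriangulated ComposableArrows Triangulated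

variable {T A : Type*} [Category* T] [Category* A] [HasZeroObject T]
  [HasShift T ℤ] [Preadditive T] [∀ (n : ℤ), (shiftFunctor T n).Additive] [Pretriangulated T]
  [IsTriangulated T] [Abelian A] (t : TStructure T) (F : T ⥤ A) [F.ShiftSequence ℤ] [F.IsHomological]
  (X : T)

/-- The spectral object in `A` attached to `X : T`, the t-structure `t` and the homological functor `F`. -/
noncomputable abbrev so : Abelian.SpectralObject A EInt :=
  HomSpec.mapHomological (t.spectralObject X) F

/-- `H^n(a ≤ b)` of the spectral object. -/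
noncomputable def HIso (n : ℤ) (a b : EInt) (hab : a ≤ b) :
    ((so t F X).H n).obj (mk₁ (homOfLE hab)) ≅
      (F.shift n).obj ((t.eTruncGE.obj a).obj ((t.eTruncLT.obj b).obj X)) := Iso.refl _

/-- `H^n(⊥ ≤ ⊤) = (F.shift n) X`. -/
noncomputable def HBotTop (n : ℤ) :
    ((so t F X).H n).obj (mk₁ (homOfLE (bot_le : (⊥ : EInt) ≤ ⊤))) ≅ (F.shift n).obj X := Iso.refl _

/-- `H^n(q ≤ q+1) = (F.shift n) (τ_{≥ q} τ_{< q + 1} X)`. -/
noncomputable def HInt (n q q' : ℤ) (h : q + 1 = q') :
    ((so t F X).H n).obj (mk₁ (homOfLE (by subst h; exact WithBotTop.coe_le_coe.2 (by lia) :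
      ((q : ℤ) : EInt) ≤ ((q' : ℤ) : EInt)))) ≅
      (F.shift n).obj ((t.truncGE q).obj ((t.truncLT q').obj X)) := Iso.refl _

/-- Vanishing on the left. -/
lemma isZero_H_of_le (m : ℤ) [t.IsGE X m] (n : ℤ) (a b : EInt) (hab : a ≤ b) (hb : b ≤ m) :
    IsZero (((so t F X).H n).obj (mk₁ (homOfLE hab))) :=
  (F.shift n).map_isZero ((t.eTruncGE.obj a).map_isZero (t.isZero_eTruncLT_obj_obj X m b hb))

/-- Vanishing on the right. -/
lemma isZero_H_of_lt (m : ℤ) (n : ℤ) (hF : ∀ Y : T, t.IsGE Y m → IsZero ((F.shift n).obj Y))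
    (a b : EInt) (hab : a ≤ b) (ha : m ≤ a) :
    IsZero (((so t F X).H n).obj (mk₁ (homOfLE hab))) :=
  hF _ (t.isGE_eTruncGE_obj_obj m a ha _)

end K49.TSpec
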